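import Cfsg.Agent.Omega.NO3S.OneQ.TrE.Main

/-!
# NO-3S, `OneQ`: case (TR) is impossible (bb OMEGA #20607): the records `TRp.Tw`, `TRp.Lft`

* `TR.no_two`, `TR.inj` : no type 2; `TR.lftP` : the lifts; **`TR.false`**, `Co.tr_false` : `[W_Z, W_Y] ≤ V` is
  impossible, `|F| ≥ 3`; **`Co.ntr_all`** : case (N).
-/

set_option autoImplicit false
set_option linter.unusedSectionVars false

namespace Cfsg.Agent.Omega.NO3S.OneQ

open Subgroup Cfsg.Agent.Omega.NO3S.PT Cfsg.Agent.Omega.NoFF.Basic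
open scoped Pointwise

universe u

variable {G : Type u} [Group G]

namespace Co

variable [Finite G] {F : Type*} [Field F] [CharP F 2] {S : Sylow 2 G} {B P V Z : Subgroup G} {h : Co F S B P V Z}

variable (h) in
/-- `fm` as an additive map, from the additive group of `W_Z` -/
noncomputable def pA : Additive (ws V Z) →+ h.MF where
  toFun w := h.fm w.toMul
  map_zero' := h.fm_one
  map_add' := fun w w' => h.fm_mul w.toMul w'.toMul

/-- `Th` as an additive map -/
noncomputable def TR.tA (hT : h.TR) : Additive (ws V Z) →+ Module.Dual F h.MF where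
  toFun w := h.Th w.toMul
  map_zero' := hT.Th_one
  map_add' := fun w w' => hT.Th_mul w.toMul w'.toMul

/-- `W_Z` is abelian -/
theorem W_comm' (h : Co F S B P V Z) (w w' : ws V Z) : w * w' = w' * w :=
  Subtype.ext (h.one.comm_W h.one.self.cj w.2 w'.2)

/-- the commutative group `W_Z` -/
@[reducible] def wA (h : Co F S B P V Z) : AddCommGroup (Additive (ws V Z)) :=
  { (inferInstance : AddGroup (Additive (ws V Z))) with
    add_comm := fun a b => congrArg Additive.ofMul (h.W_comm' a.toMul b.toMul) }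

theorem lf_mul (h : Co F S B P V Z) (j : centralizer (Z : Set G)) (c c' : F) : h.lf j (c + c') = h.lf j c * h.lf j c' := by
  apply Subtype.ext
  show (j : G) * h.e 0 (c + c') * (j : G)⁻¹ = j * h.e 0 c * (j : G)⁻¹ * (j * h.e 0 c' * (j : G)⁻¹)
  have e : h.e 0 (c + c') = h.e 0 c * h.e 0 c' := by rw [← h.e_add, add_zero]
  rw [e]; group

/-- no type 2 at the base line -/
theorem TR.no_two [Finite F] (hF : 3 ≤ Nat.card F) (hT : h.TR) (Sy : TRp.Sys F h.vv hT.Phi)
    {j : centralizer (Z : Set G)} (h1 : TRp.Hyp h.vv hT.Phi 1 j) (h2 : TRp.Hyp h.vv hT.Phi j 1)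
    {ψ : Module.Dual F h.MF} (hψ : ψ ∈ hT.Phi j) (h0 : ψ (h.vv 1) = 0) : ψ = 0 := by
  obtain ⟨s, hs0, hs1⟩ : ∃ s : F, s ≠ 0 ∧ s ≠ 1 := by
    by_contra hcon
    push Not at hcon
    have h1 : Function.Surjective (fun b : Bool => if b then (1 : F) else 0) := by
      intro x
      by_cases hx : x = 0
      · exact ⟨false, by simp [hx]⟩
      · exact ⟨true, by simp [hcon x hx]⟩
    have h2 := Nat.card_le_card_of_surjective _ h1
    have h3 : Nat.card Bool = 2 := by simp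
    omega
  obtain ⟨τ, hτ⟩ := h.exists_tor hs0
  let _ := h.wA
  have D : TRp.Tw F (W := Additive (ws V Z)) h.vv hT.Phi 1 h.pA hT.tA (fun j c => h.Th (h.lf j c)) s
      (h.rp ⟨τ, hτ.hat hs0⟩) :=
    { pi_surj := fun m => by
        obtain ⟨w, hw⟩ := h.fm_surj m
        exact ⟨Additive.ofMul w, hw⟩
      Θ_mem := fun w => by
        rw [hT.Phi_one]
        exact ⟨_, rfl⟩
      Θ_surj := fun φ hφ => by
        rw [hT.Phi_one] at hφ
        obtain ⟨w, hw⟩ := hφ
        exact ⟨Additive.ofMul w, hw⟩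
      γ_add := fun j c c' => by
        show h.Th (h.lf j (c + c')) = _
        rw [h.lf_mul, hT.Th_mul]
      inv := fun {j ψ} hψ h0 w => by
        rw [h.vv_one] at h0
        exact hT.inv hψ h0 w.toMul
      r_ne := hs0
      r_ne_one := hs1
      T_surj := fun m => ⟨h.rp ⟨τ, hτ.hat hs0⟩⁻¹ m, by
        rw [← Module.End.mul_apply, ← map_mul, mul_inv_cancel, map_one, Module.End.one_apply]⟩
      tor := fun {φ} hφ => by
        rw [hT.Phi_one] at hφ ⊢
        exact hT.tor hτ hs0 hφ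
      tor_b := fun {j ψ φ} hψ h0 hφ m => by
        rw [h.vv_one] at h0
        rw [hT.Phi_one] at hφ
        exact hT.tor_b hτ hs0 hψ h0 hφ m
      tor_γ := fun {j ψ} hψ h0 m => by
        rw [h.vv_one] at h0
        exact hT.tor_γ hτ hs0 hψ h0 m }
  exact Sy.no_two D h1 h2 hψ h0

/-- no type 2 -/
theorem TR.inj [Finite F] (hF : 3 ≤ Nat.card F) (hT : h.TR) (Sy : TRp.Sys F h.vv hT.Phi) : TRp.Inj h.vv hT.Phi := by
  intro i j hij φ hφ h0
  have : Finite h.MF := inferInstance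
  have hji := Sy.symm hij
  -- transport by `j⁻¹`
  have key : ∀ {a : centralizer (Z : Set G)} {χ : Module.Dual F h.MF}, χ ∈ hT.Phi a → χ ∘ₗ h.rcz j ∈ hT.Phi (j⁻¹ * a) := by
    intro a χ hχ
    rw [hT.Phi_mul] 
    have e : (χ ∘ₗ h.rcz j) ∘ₗ h.rcz j⁻¹ = χ := LinearMap.ext fun m => by
      rw [LinearMap.comp_apply, LinearMap.comp_apply, h.rcz_rc_inv]
    rw [e]
    exact hχ
  have hj1 : j⁻¹ * j = 1 := inv_mul_cancel j
  have e1 : TRp.Hyp h.vv hT.Phi 1 (j⁻¹ * i) := by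
    obtain ⟨χ, hχ, hne⟩ := hji
    refine ⟨χ ∘ₗ h.rcz j, by rw [← hj1]; exact key hχ, ?_⟩
    rw [LinearMap.comp_apply, h.rcz_vv, mul_inv_cancel_left]
    exact hne
  have e2 : TRp.Hyp h.vv hT.Phi (j⁻¹ * i) 1 := Sy.symm e1
  have e3 : (φ ∘ₗ h.rcz j) (h.vv 1) = 0 := by
    rw [LinearMap.comp_apply, h.rcz_vv, mul_one]
    exact h0
  have e4 := hT.no_two hF Sy e1 e2 (key hφ) e3
  refine LinearMap.ext fun m => ?_
  have e5 := LinearMap.congr_fun e4 (h.rcz j⁻¹ m)
  rw [LinearMap.comp_apply, h.rcz_rc_inv] at e5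
  exact e5

/-- the lifts -/
theorem TR.lftP (hT : h.TR) : letI := h.wA
    TRp.Lft F (W := Additive (ws V Z)) h.vv hT.Phi 1 h.pA hT.tA fun j c => Additive.ofMul (h.lf j c) := by
  let _ := h.wA
  refine
    { pi_surj := fun m => by
        obtain ⟨w, hw⟩ := h.fm_surj m
        exact ⟨Additive.ofMul w, hw⟩
      Θ_mem := fun w => by
        rw [hT.Phi_one]
        exact ⟨_, rfl⟩
      Θ_surj := fun φ hφ => by
        rw [hT.Phi_one] at hφ
        obtain ⟨w, hw⟩ := hφ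
        exact ⟨Additive.ofMul w, hw⟩
      ℓ_pi := fun j c => h.fm_lf j c
      ℓ_add := fun j c c' => by
        show h.Th (h.lf j (c + c')) = _
        rw [h.lf_mul, hT.Th_mul]
        rfl
      inv := fun {j ψ} hψ h0 w => by
        rw [h.vv_one] at h0
        exact hT.inv hψ h0 w.toMul
      act := fun {j ψ} hψ i => ?_
      gen := fun w => ?_ }
  · obtain ⟨u, hu, a, hau, ha⟩ := hT.exists_act hψ
    refine ⟨a * i, ?_, fun φ => ?_, fun c => ?_⟩
    · rw [← h.rcz_vv, ha]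
    · rw [hT.Phi_mul]
      have e : φ ∘ₗ h.rcz a = φ + φ (h.vv j) • ψ := LinearMap.ext fun m => by
        rw [LinearMap.comp_apply, ha, map_add, map_smul, LinearMap.add_apply, LinearMap.smul_apply, smul_eq_mul,
          smul_eq_mul, mul_comm]
      rw [e]
    · have h1 := hT.Th_act hu hau ha (h.lf i c)
      rw [h.fm_lf, map_smul, smul_eq_mul] at h1
      have h2 : h.wj (C_norm a.2) (h.lf i c) = h.lf (a * i) c := by
        apply Subtype.ext
        show (a : G) * (i * h.e 0 c * (i : G)⁻¹) * (a : G)⁻¹ = (a * i : G) * h.e 0 c * (a * i : G)⁻¹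
        group
      rw [h2, add_comm] at h1
      exact h1
  · -- generation
    set K := AddSubgroup.closure ({x : Additive (ws V Z) | ∃ j c, x = Additive.ofMul (h.lf j c)} ∪
      {x | h.pA x = 0 ∧ hT.tA x = 0}) with hK
    let D : Subgroup G :=
      { carrier := {g | ∃ hg : g ∈ ws V Z, Additive.ofMul (⟨g, hg⟩ : ws V Z) ∈ K}
        one_mem' := ⟨one_mem _, zero_mem K⟩
        mul_mem' := by
          rintro a b ⟨ha, ha'⟩ ⟨hb, hb'⟩
          exact ⟨mul_mem ha hb, add_mem ha' hb'⟩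
        inv_mem' := by
          rintro a ⟨ha, ha'⟩
          exact ⟨inv_mem ha, neg_mem ha'⟩ }
    have hW : ws V Z ≤ D := by
      refine ws_le fun L hL hZL => ?_
      obtain ⟨c, hc, rfl⟩ := h.line_eq hL hZL
      intro x hx
      rw [mem_cj] at hx
      obtain ⟨a, b, hab⟩ := (h.mem_V _).1 hx
      have hx' : x = h.e a 0 * (c * h.e 0 b * c⁻¹) := by
        have e1 : h.e a b = h.e a 0 * h.e 0 b := by rw [← h.e_add, add_zero, zero_add]
        have e2 : c * h.e a 0 * c⁻¹ = h.e a 0 := by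
          rw [(mem_centralizer_iff.1 hc _ (h.e_memZ a)).symm, mul_inv_cancel_right]
        calc x = c * (c⁻¹ * x * c) * c⁻¹ := by group
          _ = c * h.e a 0 * c⁻¹ * (c * h.e 0 b * c⁻¹) := by rw [← hab, e1]; group
          _ = _ := by rw [e2]
      rw [hx']
      refine D.mul_mem ?_ ?_
      · refine ⟨h.W_V a 0, AddSubgroup.subset_closure (Or.inr ⟨?_, ?_⟩)⟩
        · show h.fm ⟨h.e a 0, _⟩ = 0
          rw [h.fm_e, zero_smul]
        · exact hT.Th_Z (w := ⟨h.e a 0, h.W_V a 0⟩) (h.e_memZ a)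
      · exact ⟨(h.lf ⟨c, hc⟩ b).2, AddSubgroup.subset_closure (Or.inl ⟨⟨c, hc⟩, b, rfl⟩)⟩
    obtain ⟨_, hw⟩ := hW w.toMul.2
    exact hw

/-- **case (TR) is impossible** -/
theorem TR.false [Finite F] (hF : 3 ≤ Nat.card F) (hT : h.TR) (hT' : OneQ.TR V Z) : False := by
  have Sy := hT.sysP hT'
  have hI : TRp.Inj h.vv hT.Phi := hT.inj hF Sy
  have : Finite h.MF := inferInstance
  obtain ⟨f, hf, hf0⟩ := Sy.exists_ne 1
  let _ := h.wA
  obtain ⟨δ, hδ⟩ := TRp.Lft.delta Sy hI hT.lftP hf hf0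
  exact hT.false_of hF Sy hI hf hf0 ⟨δ, fun w => hδ (Additive.ofMul w)⟩

/-- one point is enough -/
theorem TR.all (hT : h.TR) : OneQ.TR V Z := by
  intro Y hY hne w hw u hu
  obtain ⟨k, hk, rfl⟩ := h.one.move h.one.self h.pY hY h.Yp_ne hne
  have hkN := centralizer_le_normalizer _ (kx_le_cent hk)
  have hw' : k⁻¹ * w * k ∈ ws V Z := by
    have := h.W_conj (inv_mem hkN) hw
    rwa [inv_inv] at this
  have hu' : k⁻¹ * u * k ∈ ws V h.Yp := by
    rw [ws_cj, mem_cj] at hu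
    exact hu
  have h1 := hT _ hw' _ hu'
  have h2 := (mem_normalizer_iff.1 (h.one.K_norm h.one.self hk) _).1 h1
  have e : k * (k⁻¹ * w * k * (k⁻¹ * u * k) * (k⁻¹ * w * k)⁻¹ * (k⁻¹ * u * k)⁻¹) * k⁻¹ = w * u * w⁻¹ * u⁻¹ := by group
  rwa [e] at h2

/-- **(TR) is impossible** (846's socket `TrF`) -/
theorem trF (h : Co F S B P V Z) [Finite F] (hF : 3 ≤ Nat.card F)
    (hT : ∀ w ∈ ws V Z, ∀ u ∈ ws V h.Yp, w * u * w⁻¹ * u⁻¹ ∈ V) : False :=
  TR.false (h := h) hF hT (TR.all hT)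

/-- **(TR) is impossible** -/
theorem tr_false (h : Co F S B P V Z) [Finite F] (hF : 3 ≤ Nat.card F) (hT : OneQ.TR V Z) : False :=
  TR.false (h := h) hF (fun w hw u hu => hT _ h.pY h.Yp_ne w hw u hu) hT

/-- **only case (N) is left** -/
theorem ntr_all (h : Co F S B P V Z) [Finite F] (hF : 3 ≤ Nat.card F) : NTr V Z := by
  by_cases hT : OneQ.TR V Z
  · exact (h.tr_false hF hT).elim
  · unfold OneQ.TR at hT
    push Not at hT
    obtain ⟨Y, hY, hne, w, hw, u, hu, hwu⟩ := hT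
    exact h.ntr hY hne ⟨w, hw, u, hu, hwu⟩

end Co

end Cfsg.Agent.Omega.NO3S.OneQ
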