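import Cfsg.Agent.Omega.NO3S.OneQ.Alf

/-!
# NO-3S, `OneQ`, case (TR), the end (bb OMEGA #20607 (3.5), #20975 (III), #21079): the commutator formula

`Dat h` : `E = D`, `W_Z / D_Z` is one-dimensional (`φ`), torus weight `1 + θ`, `θ² = Frobenius`,
`[w, w'^n] = e(κ φ(w') θ(φ w), κ φ(w) θ(φ w'))`.

* `Dat.lab` : `Lab (a, b) w` : `w = g w₀ g⁻¹`, `g ∈ X_l`, `g (1, 0) = (a, b)`, `φ w₀ = 1`;
* `Lab.com` : `[w, w'] = e(κ δ θ(δ) (a + a'), κ δ θ(δ) (b + b'))`, `δ = a b' + b a'`;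
* `Dat.exists_n` : some `n ∈ C_G(W_Z)` has `n² ∈ V - Z`;
* `Dat.exists_b` : some `b ∈ C_G(W_Y)` has `b² ∈ W_Y - E_Y`.
-/

set_option autoImplicit false
set_option linter.unusedSectionVars false

namespace Cfsg.Agent.Omega.NO3S.OneQ.TrE

open Subgroup Cfsg.Agent.Omega.NO3S.PT Cfsg.Agent.Omega.NoFF.Basic
open scoped Pointwise

universe u

variable {G : Type u} [Group G]

/-- the data of the end of (TR) -/
structure Dat [Finite G] {F : Type*} [Field F] [CharP F 2] {S : Sylow 2 G} {B P V Z : Subgroup G}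
    (h : Co F S B P V Z) where
  θ : F →+* F
  κ : F
  φ : G → F
  θθ : ∀ a, θ (θ a) = a * a
  κ0 : κ ≠ 0
  mul : ∀ {w w'}, w ∈ ws V Z → w' ∈ ws V Z → φ (w * w') = φ w + φ w'
  zero : ∀ {w}, w ∈ ws V Z → (φ w = 0 ↔ w ∈ dd V Z Z)
  surj : ∀ a, ∃ w ∈ ws V Z, φ w = a
  lin : ∀ {w w' c}, w ∈ ws V Z → w' ∈ ws V Z → (∀ k ∈ kx V Z, h.fn w' k = c * h.fn w k) → φ w' = c * φ w
  tor : ∀ {τ w ζ}, h.Tor τ ζ → ζ ≠ 0 → w ∈ ws V Z → φ (τ * w * τ⁻¹) = ζ * θ ζ * φ w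
  ee_dd : ee V Z Z = dd V Z Z
  com : ∀ {w w'}, w ∈ ws V Z → w' ∈ ws V Z →
    w * (h.sw * w' * h.sw⁻¹) * w⁻¹ * (h.sw * w' * h.sw⁻¹)⁻¹ =
      h.e (κ * φ w' * θ (φ w)) (κ * φ w * θ (φ w'))

namespace Dat

variable [Finite G] {F : Type*} [Field F] [CharP F 2] {S : Sylow 2 G} {B P V Z : Subgroup G}
  {h : Co F S B P V Z} (D : Dat h)
include D

theorem φ_dd {w d : G} (hw : w ∈ ws V Z) (hd : d ∈ dd V Z Z) : D.φ (d * w) = D.φ w := by
  rw [D.mul (dd_le hd) hw, (D.zero (dd_le hd)).2 hd, zero_add]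

theorem φ_K {k w : G} (hk : k ∈ kx V Z) (hw : w ∈ ws V Z) : D.φ (k * w * k⁻¹) = D.φ w := by
  have h1 := h.one.X_le_dd h.one.self ((mem_kx.1 hk).2 w hw)
  have e : k * w * k⁻¹ = k * w * k⁻¹ * w⁻¹ * w := by group
  rw [e, D.φ_dd hw h1]

theorem φ_yl {k w : G} (hk : k ∈ yl V Z) (hw : w ∈ ws V Z) : D.φ (k * w * k⁻¹) = D.φ w := by
  have h1 := h.one.yl_ee h.one.self hk hw
  rw [D.ee_dd] at h1
  have e : k * w * k⁻¹ = k * w * k⁻¹ * w⁻¹ * w := by group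
  rw [e, D.φ_dd hw h1]

/-- an element of `X_l` which fixes `(1, 0)` acts trivially on `W_Z / D_Z` -/
theorem φ_stab {g w : G} (hg : g ∈ XV V Z) (hg1 : g * h.e 1 0 * g⁻¹ = h.e 1 0) (hw : w ∈ ws V Z) :
    g * w * g⁻¹ ∈ ws V Z ∧ D.φ (g * w * g⁻¹) = D.φ w := by
  obtain ⟨a, b, c, d, hdet, hact⟩ := h.XV_mat hg
  have h1 := hact 1 0
  rw [hg1] at h1
  obtain ⟨ha, hc⟩ := h.e_inj h1
  rw [mul_one, mul_zero, add_zero] at ha hc
  have hd : d = 1 := by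
    rw [← ha, ← hc, one_mul, mul_zero, add_zero] at hdet
    exact hdet
  have hact' : ∀ x y, g * h.e x y * g⁻¹ = h.e (x + b * y) y := by
    intro x y
    rw [hact, ← ha, ← hc, hd]
    congr 1 <;> ring
  have hk := h.kp_mem b
  have hy : (h.kp b)⁻¹ * g ∈ yl V Z := by
    rw [← h.XV_cent]
    refine ⟨(XV V Z).mul_mem ((XV V Z).inv_mem (h.kp_XV b)) hg, h.mem_cent fun x y => ?_⟩
    have e : (h.kp b)⁻¹ * g * h.e x y * ((h.kp b)⁻¹ * g)⁻¹ = (h.kp b)⁻¹ * (g * h.e x y * g⁻¹) * h.kp b := by group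
    rw [e, hact', ← h.kp_act b x y]
    group
  set y := (h.kp b)⁻¹ * g with hydef
  have hgy : g = h.kp b * y := by rw [hydef]; group
  have hyW : y * w * y⁻¹ ∈ ws V Z :=
    (mem_normalizer_iff.1 (h.one.cent_norm_W h.one.self (yl_le_cent V Z hy)) _).1 hw
  have e : g * w * g⁻¹ = h.kp b * (y * w * y⁻¹) * (h.kp b)⁻¹ := by rw [hgy]; group
  rw [e]
  refine ⟨?_, ?_⟩
  · exact h.W_conj (centralizer_le_normalizer _ (kx_le_cent hk)) hyW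
  · rw [D.φ_K hk hyW, D.φ_yl hy hw]

/-- `[w, k w' k⁻¹]` for `k ∈ X_l`, `k (1, 0) = (r, δ)` -/
theorem com_k {k w w' : G} {r δ : F} (hk : k ∈ XV V Z) (hk1 : k * h.e 1 0 * k⁻¹ = h.e r δ) (hw : w ∈ ws V Z)
    (hw' : w' ∈ ws V Z) (h1 : D.φ w = 1) (h1' : D.φ w' = 1) :
    w * (k * w' * k⁻¹) * w⁻¹ * (k * w' * k⁻¹)⁻¹ =
      h.e (D.κ * (δ * D.θ δ) * (1 + r)) (D.κ * (δ * D.θ δ) * δ) := by
  by_cases hδ : δ = 0
  · -- `k` fixes `Z`
    subst hδ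
    obtain ⟨a, b, c, d, hdet, hact⟩ := h.XV_mat hk
    have h2 := hact 1 0
    rw [hk1] at h2
    obtain ⟨ha, hc⟩ := h.e_inj h2
    rw [mul_one, mul_zero, add_zero] at ha hc
    have hr : r ≠ 0 := by
      rintro rfl
      rw [← ha, ← hc, zero_mul, mul_zero, add_zero] at hdet
      exact zero_ne_one hdet
    have hkZ : PT.cj k Z = Z := by
      refine h.cj_Z_of (f := fun x => r * x) (fun x => ⟨r⁻¹ * x, mul_inv_cancel_left₀ hr x⟩) fun x => ?_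
      rw [hact, ← ha, ← hc]
      congr 1 <;> ring
    have h3 : k * w' * k⁻¹ ∈ ws V Z := by
      have := conj_mem_cj (g := k) hw'
      rwa [← ws_cj, hkZ] at this
    rw [h.one.comm_W h.one.self.cj hw h3, mul_inv_cancel_right, mul_inv_cancel, zero_mul, mul_zero, zero_mul, mul_zero,
      h.e_zero]
  · obtain ⟨τ, hτ⟩ := h.exists_tor hδ
    set s := r * δ⁻¹ with hs
    have hsδ : s * δ = r := by rw [hs, mul_assoc, inv_mul_cancel₀ hδ, mul_one]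
    have hkp := h.kp_mem s
    have hkpX := h.kp_XV s
    -- `m`
    have hmX : τ⁻¹ * h.sw⁻¹ * (h.kp s)⁻¹ * k ∈ XV V Z :=
      mul_mem (mul_mem (mul_mem (inv_mem hτ.mem) (inv_mem h.sw_XV)) (inv_mem hkpX)) hk
    have hm1 : τ⁻¹ * h.sw⁻¹ * (h.kp s)⁻¹ * k * h.e 1 0 * (τ⁻¹ * h.sw⁻¹ * (h.kp s)⁻¹ * k)⁻¹ = h.e 1 0 := by
      have e : τ⁻¹ * h.sw⁻¹ * (h.kp s)⁻¹ * k * h.e 1 0 * (τ⁻¹ * h.sw⁻¹ * (h.kp s)⁻¹ * k)⁻¹ =
          τ⁻¹ * (h.sw⁻¹ * ((h.kp s)⁻¹ * (k * h.e 1 0 * k⁻¹) * h.kp s) * h.sw) * τ := by group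
      have e1 : (h.kp s)⁻¹ * h.e r δ * h.kp s = h.e 0 δ := by
        have h2 := h.kp_act s 0 δ
        rw [zero_add, hsδ] at h2
        rw [← h2]; group
      have e2 : τ⁻¹ * h.e δ 0 * τ = h.e 1 0 := by
        have h2 := hτ.act 1 0
        rw [mul_one, mul_zero] at h2
        rw [← h2]; group
      rw [e, hk1, e1, h.sw_act', e2]
    obtain ⟨hmW, hmφ⟩ := D.φ_stab hmX hm1 hw'
    set m := τ⁻¹ * h.sw⁻¹ * (h.kp s)⁻¹ * k with hm
    set w₂ := τ * (m * w' * m⁻¹) * τ⁻¹ with hw₂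
    have hw₂W : w₂ ∈ ws V Z := h.W_conj (hτ.norm_Z hδ) hmW
    have hw₂φ : D.φ w₂ = δ * D.θ δ := by rw [hw₂, D.tor hτ hδ hmW, hmφ, h1', mul_one]
    have hkw : k * w' * k⁻¹ = h.kp s * (h.sw * w₂ * h.sw⁻¹) * (h.kp s)⁻¹ := by rw [hw₂, hm]; group
    have hkinv := inv_mem hkp
    have hwk : (h.kp s)⁻¹ * w * h.kp s ∈ ws V Z := by
      have := h.W_conj (centralizer_le_normalizer _ (kx_le_cent hkinv)) hw
      rwa [inv_inv] at this
    have hwkφ : D.φ ((h.kp s)⁻¹ * w * h.kp s) = 1 := by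
      have := D.φ_K hkinv hw
      rw [inv_inv] at this
      rw [this, h1]
    have h5 := D.com hwk hw₂W
    rw [hwkφ, hw₂φ, map_one, map_mul, D.θθ] at h5
    have e : w * (k * w' * k⁻¹) * w⁻¹ * (k * w' * k⁻¹)⁻¹ =
        h.kp s * ((h.kp s)⁻¹ * w * h.kp s * (h.sw * w₂ * h.sw⁻¹) * ((h.kp s)⁻¹ * w * h.kp s)⁻¹ *
          (h.sw * w₂ * h.sw⁻¹)⁻¹) * (h.kp s)⁻¹ := by rw [hkw]; group
    rw [e, h5, h.kp_act]
    congr 1
    · rw [← hsδ]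
      ring
    · ring

/-- `w = g w₀ g⁻¹` with `g (1, 0) = (a, b)` -/
def Lab (a b : F) (w : G) : Prop :=
  ∃ g ∈ XV V Z, ∃ w₀ ∈ ws V Z, D.φ w₀ = 1 ∧ g * h.e 1 0 * g⁻¹ = h.e a b ∧ w = g * w₀ * g⁻¹

end Dat

variable [Finite G] {F : Type*} [Field F] [CharP F 2] {S : Sylow 2 G} {B P V Z : Subgroup G}
  {h : Co F S B P V Z} {D : Dat h}

/-- **the commutator formula** -/
theorem Dat.Lab.com {a b a' b' : F} {w w' : G} (hw : D.Lab a b w) (hw' : D.Lab a' b' w') :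
    w * w' * w⁻¹ * w'⁻¹ = h.e (D.κ * ((a * b' + b * a') * D.θ (a * b' + b * a')) * (a + a'))
      (D.κ * ((a * b' + b * a') * D.θ (a * b' + b * a')) * (b + b')) := by
  obtain ⟨g, hg, w₀, hw₀, hφ, hg1, rfl⟩ := hw
  obtain ⟨g', hg', w₀', hw₀', hφ', hg1', rfl⟩ := hw'
  obtain ⟨x, p, y, q, hdet, hact⟩ := h.XV_mat hg
  have h1 := hact 1 0
  rw [hg1] at h1
  obtain ⟨ha, hb⟩ := h.e_inj h1
  rw [mul_one, mul_zero, add_zero] at ha hb
  subst ha hb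
  have hinv : ∀ u v, g⁻¹ * h.e u v * g = h.e (q * u + p * v) (b * u + a * v) := by
    intro u v
    have h2 := hact (q * u + p * v) (b * u + a * v)
    have e1 : a * (q * u + p * v) + p * (b * u + a * v) = u := by
      have : a * (q * u + p * v) + p * (b * u + a * v) = (a * q + p * b) * u + (a * p * v + a * p * v) := by ring
      rw [this, hdet, CharTwo.add_self_eq_zero, one_mul, add_zero]
    have e2 : b * (q * u + p * v) + q * (b * u + a * v) = v := by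
      have : b * (q * u + p * v) + q * (b * u + a * v) = (a * q + p * b) * v + (b * q * u + b * q * u) := by ring
      rw [this, hdet, CharTwo.add_self_eq_zero, one_mul, add_zero]
    rw [e1, e2] at h2
    rw [← h2]; group
  have hk : g⁻¹ * g' ∈ XV V Z := mul_mem (inv_mem hg) hg'
  have hk1 : g⁻¹ * g' * h.e 1 0 * (g⁻¹ * g')⁻¹ = h.e (q * a' + p * b') (b * a' + a * b') := by
    have e : g⁻¹ * g' * h.e 1 0 * (g⁻¹ * g')⁻¹ = g⁻¹ * (g' * h.e 1 0 * g'⁻¹) * g := by group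
    rw [e, hg1', hinv]
  have h5 := D.com_k hk hk1 hw₀ hw₀' hφ hφ'
  have e : g * w₀ * g⁻¹ * (g' * w₀' * g'⁻¹) * (g * w₀ * g⁻¹)⁻¹ * (g' * w₀' * g'⁻¹)⁻¹ =
      g * (w₀ * (g⁻¹ * g' * w₀' * (g⁻¹ * g')⁻¹) * w₀⁻¹ * (g⁻¹ * g' * w₀' * (g⁻¹ * g')⁻¹)⁻¹) * g⁻¹ := by group
  rw [e, h5, hact]
  set δ := b * a' + a * b' with hδ
  have hδ' : a * b' + b * a' = δ := by rw [hδ, add_comm]
  rw [hδ']
  congr 1
  · have h6 : a * (q * a' + p * b') + p * δ = a' := by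
      have : a * (q * a' + p * b') + p * δ = (a * q + p * b) * a' + (a * p * b' + a * p * b') := by rw [hδ]; ring
      rw [this, hdet, CharTwo.add_self_eq_zero, one_mul, add_zero]
    have h7 : a * (D.κ * (δ * D.θ δ) * (1 + (q * a' + p * b'))) + p * (D.κ * (δ * D.θ δ) * δ) =
        D.κ * (δ * D.θ δ) * (a + (a * (q * a' + p * b') + p * δ)) := by ring
    rw [h7, h6]
  · have h6 : b * (q * a' + p * b') + q * δ = b' := by
      have : b * (q * a' + p * b') + q * δ = (a * q + p * b) * b' + (b * q * a' + b * q * a') := by rw [hδ]; ring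
      rw [this, hdet, CharTwo.add_self_eq_zero, one_mul, add_zero]
    have h7 : b * (D.κ * (δ * D.θ δ) * (1 + (q * a' + p * b'))) + q * (D.κ * (δ * D.θ δ) * δ) =
        D.κ * (δ * D.θ δ) * (b + (b * (q * a' + p * b') + q * δ)) := by ring
    rw [h7, h6]

end Cfsg.Agent.Omega.NO3S.OneQ.TrE
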