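import Cfsg.Agent.Omega.NO3S.OneQ.TrE.Plug

/-!
# NO-3S, `OneQ`, case (TR): the torus numbers (bb OMEGA #20607 (3.4), #21595)

`PreDat h` : a functional `f ≠ 0` of `MF` and `δ : F ≃+ F` such that `w'^n` acts on `MF` as
`1 + δ(f(w')) f ⊗ v₀` for `w' ∈ W_Z`.

* `PreDat.zero`, `PreDat.ee_dd` : `f(w) = 0` iff `w ∈ D_Z = E_Z`; `PreDat.com` : the commutator formula;
* `PreDat.scal` : `g ∈ N_G(V)` which acts on `Z` as a scalar multiplies `f` by a scalar;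
* `PreDat.rel_tor` : `δ(μ a) = μ ζ δ(a)`; `PreDat.rel_h` : `δ(c a) = c⁻¹ μ δ(a)`;
* `PreDat.toDat` : `TrE.Dat h`.
-/

set_option autoImplicit false
set_option linter.unusedSectionVars false

namespace Cfsg.Agent.Omega.NO3S.OneQ.TrE

open Subgroup Cfsg.Agent.Omega.NO3S.PT Cfsg.Agent.Omega.NoFF.Basic
open scoped Pointwise

universe u

variable {G : Type u} [Group G]

/-- a functional and `δ` -/
structure PreDat [Finite G] {F : Type*} [Field F] [CharP F 2] {S : Sylow 2 G} {B P V Z : Subgroup G}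
    (h : Co F S B P V Z) where
  f : Module.Dual F h.MF
  f0 : f ≠ 0
  δ : F ≃+ F
  ag : ∀ (w : G) (hw : w ∈ ws V Z) (m : h.MF),
    h.rz ⟨h.sw * w * h.sw⁻¹, h.one.W_le_C h.pY (h.sw_W hw)⟩ m = m + (δ (f (h.fm ⟨w, hw⟩)) * f m) • h.v0

namespace PreDat

variable [Finite G] {F : Type*} [Field F] [CharP F 2] {S : Sylow 2 G} {B P V Z : Subgroup G}
  {h : Co F S B P V Z} (D : PreDat h)

open Classical in
/-- the functional on `W_Z` -/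
noncomputable def φ (g : G) : F := if hg : g ∈ ws V Z then D.f (h.fm ⟨g, hg⟩) else 0

theorem φ_eq {w : G} (hw : w ∈ ws V Z) : D.φ w = D.f (h.fm ⟨w, hw⟩) := dif_pos hw

theorem φ_mul {w w' : G} (hw : w ∈ ws V Z) (hw' : w' ∈ ws V Z) : D.φ (w * w') = D.φ w + D.φ w' := by
  rw [D.φ_eq hw, D.φ_eq hw', D.φ_eq (mul_mem hw hw'), ← map_add, ← h.fm_mul]
  rfl

theorem exists_one : ∃ m, D.f m = 1 := by
  obtain ⟨m, hm⟩ : ∃ m, D.f m ≠ 0 := by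
    by_contra hcon
    push Not at hcon
    exact D.f0 (LinearMap.ext hcon)
  exact ⟨(D.f m)⁻¹ • m, by rw [map_smul, smul_eq_mul, inv_mul_cancel₀ hm]⟩

theorem φ_surj (a : F) : ∃ w ∈ ws V Z, D.φ w = a := by
  obtain ⟨m, hm⟩ := D.exists_one
  obtain ⟨w, hw⟩ := h.fm_surj (a • m)
  refine ⟨w, w.2, ?_⟩
  rw [D.φ_eq w.2]
  show D.f (h.fm w) = a
  rw [hw, map_smul, hm, smul_eq_mul, mul_one]

theorem φ_lin {w w' : G} {c : F} (hw : w ∈ ws V Z) (hw' : w' ∈ ws V Z)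
    (hc : ∀ k ∈ kx V Z, h.fn w' k = c * h.fn w k) : D.φ w' = c * D.φ w := by
  rw [D.φ_eq hw, D.φ_eq hw', ← smul_eq_mul, ← map_smul]
  congr 1
  exact Subtype.ext (funext fun k => hc k k.2)

/-- the second coordinate of the commutator -/
theorem comY {w w' : G} (hw : w ∈ ws V Z) (hw' : w' ∈ ws V Z) :
    ∃ x, w * (h.sw * w' * h.sw⁻¹) * w⁻¹ * (h.sw * w' * h.sw⁻¹)⁻¹ = h.e x (D.δ (D.φ w') * D.φ w) := by
  obtain ⟨x, hx, hxe, e⟩ := h.rp_W h.pY h.Yp_ne (h.sw_W hw') ⟨w, hw⟩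
  have e' : h.rz ⟨h.sw * w' * h.sw⁻¹, h.one.W_le_C h.pY (h.sw_W hw')⟩ (h.fm ⟨w, hw⟩) - h.fm ⟨w, hw⟩ =
    h.fm ⟨x, h.one.I_le_W' hx⟩ := e
  rw [D.ag w' hw', add_sub_cancel_left, ← D.φ_eq hw, ← D.φ_eq hw', ← h.fm_e 0] at e'
  have h1 := (h.fm_I_eq (h.one.pl.V_le_IV (h.e_memV 0 _)) hx).1 e'
  obtain ⟨a, ha⟩ := (h.mem_Z _).1 h1
  refine ⟨a, ?_⟩
  have h2 : x = h.e a (D.δ (D.φ w') * D.φ w) := by
    have h3 : x = (h.e a 0)⁻¹ * h.e 0 (D.δ (D.φ w') * D.φ w) := by rw [ha]; group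
    rw [h3, h.e_inv, ← h.e_add, add_zero, zero_add]
  rw [← h.e_inv, ← h2, hxe]
  show _ = (h.sw * w' * h.sw⁻¹ * w * (h.sw * w' * h.sw⁻¹)⁻¹ * w⁻¹)⁻¹
  group

theorem ee_φ {w : G} (hw : w ∈ ee V Z Z) : D.φ w = 0 := by
  obtain ⟨w₂, hw₂, h2⟩ := D.φ_surj 1
  obtain ⟨x, hx⟩ := D.comY hw₂ (ee_le hw)
  have h3 := h.one.ee_act' h.one.self h.Yp_ne.symm (h.sw_ee.2 hw) hw₂
  rw [hx, h.e_memZ_iff, h2, mul_one] at h3
  exact (map_eq_zero_iff D.δ D.δ.injective).1 h3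

theorem φ_dd {w : G} (hw : w ∈ ws V Z) (h0 : D.φ w = 0) : w ∈ dd V Z Z := by
  have h1 : h.sw * w * h.sw⁻¹ ∈ ee V Z h.Yp := by
    refine h.one.mem_ee_of h.pY h.one.self h.Yp_ne.symm (h.sw_W hw) fun u hu => ?_
    obtain ⟨x, hx⟩ := D.comY hu hw
    rw [h0, map_zero, zero_mul] at hx
    have h2 : u * (h.sw * w * h.sw⁻¹) * u⁻¹ * (h.sw * w * h.sw⁻¹)⁻¹ ∈ Z := by
      rw [hx]; exact h.e_memZ x
    have h3 := inv_mem h2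
    have e : (u * (h.sw * w * h.sw⁻¹) * u⁻¹ * (h.sw * w * h.sw⁻¹)⁻¹)⁻¹ =
        h.sw * w * h.sw⁻¹ * u * (h.sw * w * h.sw⁻¹)⁻¹ * u⁻¹ := by group
    rwa [e] at h3
  have hwE := h.sw_ee.1 h1
  refine h.one.mem_dd_of h.one.self h.pY h.Yp_ne hw fun u hu => ?_
  have hu' := h.sw_inv_W hu
  have eu : h.sw * (h.sw⁻¹ * u * h.sw) * h.sw⁻¹ = u := by group
  obtain ⟨x, hx⟩ := D.comY hw hu'
  rw [h0, mul_zero, eu] at hx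
  have h2 : w * u * w⁻¹ * u⁻¹ ∈ Z ⊓ h.Yp := ⟨by rw [hx]; exact h.e_memZ x, h.one.ee_act h.pY h.Yp_ne hwE hu⟩
  rw [h.one.pl.pts_inf h.one.self.cj h.pY.cj h.Yp_ne.symm, mem_bot, mul_inv_eq_one, mul_inv_eq_iff_eq_mul] at h2
  exact h2

theorem zero {w : G} (hw : w ∈ ws V Z) : D.φ w = 0 ↔ w ∈ dd V Z Z :=
  ⟨D.φ_dd hw, fun h1 => D.ee_φ (h.one.dd_le_ee h.one.self h1)⟩

include D in
theorem ee_dd : ee V Z Z = dd V Z Z :=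
  le_antisymm (fun _ hw => D.φ_dd (ee_le hw) (D.ee_φ hw)) (h.one.dd_le_ee h.one.self)

theorem φ_yl {k w : G} (hk : k ∈ yl V Z) (hw : w ∈ ws V Z) :
    k * w * k⁻¹ ∈ ws V Z ∧ D.φ (k * w * k⁻¹) = D.φ w := by
  have h1 := h.one.yl_ee h.one.self hk hw
  have e : k * w * k⁻¹ = k * w * k⁻¹ * w⁻¹ * w := by group
  refine ⟨by rw [e]; exact mul_mem (ee_le h1) hw, ?_⟩
  rw [e, D.φ_mul (ee_le h1) hw, D.ee_φ h1, zero_add]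

/-- the commutator formula -/
theorem com {w w' : G} (hw : w ∈ ws V Z) (hw' : w' ∈ ws V Z) :
    w * (h.sw * w' * h.sw⁻¹) * w⁻¹ * (h.sw * w' * h.sw⁻¹)⁻¹ =
      h.e (D.δ (D.φ w) * D.φ w') (D.δ (D.φ w') * D.φ w) := by
  obtain ⟨x, hx⟩ := D.comY hw hw'
  obtain ⟨x', hx'⟩ := D.comY hw' hw
  set u := h.sw * w' * h.sw⁻¹ with hu
  set a := h.sw * w * h.sw⁻¹ with ha
  -- conjugate by `sw`
  have h1 : h.sw * (w * u * w⁻¹ * u⁻¹) * h.sw⁻¹ = h.e (D.δ (D.φ w') * D.φ w) x := by rw [hx, h.sw_act]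
  obtain ⟨hW2, -⟩ := D.φ_yl h.sw_sq hw'
  have hd : h.sw * u * h.sw⁻¹ * w'⁻¹ ∈ dd V Z Z := by
    rw [← D.ee_dd]
    have h2 := h.one.yl_ee h.one.self h.sw_sq hw'
    have e : h.sw * h.sw * w' * (h.sw * h.sw)⁻¹ * w'⁻¹ = h.sw * u * h.sw⁻¹ * w'⁻¹ := by rw [hu]; group
    rwa [e] at h2
  set d := h.sw * u * h.sw⁻¹ * w'⁻¹ with hddef
  have haY : a ∈ ws V h.Yp := h.sw_W hw
  have hda : d * a = a * d := h.one.dd_comm h.pY h.Yp_ne hd haY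
  have h3 : h.sw * (w * u * w⁻¹ * u⁻¹) * h.sw⁻¹ = a * (d * w') * a⁻¹ * (d * w')⁻¹ := by rw [hddef, ha]; group
  have h4 : a * (d * w') * a⁻¹ * (d * w')⁻¹ = d * (w' * a * w'⁻¹ * a⁻¹)⁻¹ * d⁻¹ := by
    calc a * (d * w') * a⁻¹ * (d * w')⁻¹ = (a * d) * w' * a⁻¹ * w'⁻¹ * d⁻¹ := by group
      _ = d * (w' * a * w'⁻¹ * a⁻¹)⁻¹ * d⁻¹ := by rw [← hda]; group
  have hdV : d ∈ centralizer (V : Set G) := h.one.W_le_cent h.one.self (dd_le hd)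
  rw [h3, h4, hx', h.e_inv, h.comm_e hdV] at h1
  obtain ⟨-, h5⟩ := h.e_inj h1
  rw [hx, ← h5]

/-- an element of `N_G(V)` which acts on `Z` as a scalar multiplies `f` by a scalar -/
theorem scal {g : G} (hg : g ∈ h.hat) (hgV : g ∈ normalizer (V : Set G)) :
    ∃ μ : F, μ ≠ 0 ∧ ∀ w ∈ ws V Z, g * w * g⁻¹ ∈ ws V Z ∧ D.φ (g * w * g⁻¹) = μ * D.φ w := by
  have hgN := h.hat_norm hg
  have hgd : PT.cj g (dd V Z Z) = dd V Z Z := by rw [cj_dd hgV, cj_eq_iff.2 hgN]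
  have hf : ∀ w (hw : w ∈ ws V Z), D.f (h.rp ⟨g, hg⟩ (h.fm ⟨w, hw⟩)) = D.φ (g * w * g⁻¹) := by
    intro w hw
    rw [h.rp_fm' hg hw, D.φ_eq (h.W_conj hgN hw)]
  have hk : ∀ m, D.f m = 0 → D.f (h.rp ⟨g, hg⟩ m) = 0 := by
    intro m hm
    obtain ⟨⟨w, hw⟩, rfl⟩ := h.fm_surj m
    rw [hf w hw, D.zero (h.W_conj hgN hw), ← hgd]
    exact conj_mem_cj ((D.zero hw).1 (by rw [D.φ_eq hw, hm]))
  obtain ⟨m₀, hm₀⟩ := D.exists_one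
  have hμ : ∀ m, D.f (h.rp ⟨g, hg⟩ m) = D.f (h.rp ⟨g, hg⟩ m₀) * D.f m := by
    intro m
    have h1 := hk (m - D.f m • m₀) (by rw [map_sub, map_smul, hm₀, smul_eq_mul, mul_one, sub_self])
    rw [map_sub, map_sub, map_smul, map_smul, sub_eq_zero, smul_eq_mul] at h1
    rw [h1, mul_comm]
  refine ⟨D.f (h.rp ⟨g, hg⟩ m₀), ?_, fun w hw => ⟨h.W_conj hgN hw, ?_⟩⟩
  · intro h0
    have h1 := hμ (h.rp ⟨g, hg⟩⁻¹ m₀)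
    rw [h0, zero_mul, ← Module.End.mul_apply, ← map_mul, mul_inv_cancel, map_one, Module.End.one_apply, hm₀] at h1
    exact one_ne_zero h1
  · rw [← hf w hw, hμ, ← D.φ_eq hw]

/-- the torus -/
theorem rel_tor {τ : G} {ζ : F} (hτ : h.Tor τ ζ) (hζ : ζ ≠ 0) :
    ∃ μ : F, μ ≠ 0 ∧ (∀ w ∈ ws V Z, D.φ (τ * w * τ⁻¹) = μ * D.φ w) ∧ ∀ a, D.δ (μ * a) = μ * ζ * D.δ a := by
  obtain ⟨μ, hμ, hw⟩ := D.scal (hτ.hat hζ) hτ.norm_V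
  refine ⟨μ, hμ, fun w hw' => (hw w hw').2, fun a => ?_⟩
  obtain ⟨w, hwW, hw1⟩ := D.φ_surj 1
  obtain ⟨w₂, hw₂W, hw₂⟩ := D.φ_surj a
  -- `w' = τ w₂ τ⁻¹`
  obtain ⟨hw'W, hw'⟩ := hw w₂ hw₂W
  set w' := τ * w₂ * τ⁻¹ with hw'def
  have hy : h.sw⁻¹ * τ * h.sw * τ ∈ yl V Z := by
    rw [← h.XV_cent]
    refine ⟨(XV V Z).mul_mem ((XV V Z).mul_mem ((XV V Z).mul_mem ((XV V Z).inv_mem h.sw_XV) hτ.mem) h.sw_XV) hτ.mem,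
      h.mem_cent fun x y => ?_⟩
    have e : h.sw⁻¹ * τ * h.sw * τ * h.e x y * (h.sw⁻¹ * τ * h.sw * τ)⁻¹ =
        h.sw⁻¹ * (τ * (h.sw * (τ * h.e x y * τ⁻¹) * h.sw⁻¹) * τ⁻¹) * h.sw := by group
    rw [e, hτ.act, h.sw_act, hτ.act, h.sw_act', mul_inv_cancel_left₀ hζ, inv_mul_cancel_left₀ hζ]
  obtain ⟨hyW, hyφ⟩ := D.φ_yl hy hw₂W
  set w'' := h.sw⁻¹ * τ * h.sw * τ * w₂ * (h.sw⁻¹ * τ * h.sw * τ)⁻¹ with hw''
  have h1 := D.com hwW hw'W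
  have h2 := D.com (hw w hwW).1 hyW
  have e : τ * (w * (h.sw * w' * h.sw⁻¹) * w⁻¹ * (h.sw * w' * h.sw⁻¹)⁻¹) * τ⁻¹ =
      τ * w * τ⁻¹ * (h.sw * w'' * h.sw⁻¹) * (τ * w * τ⁻¹)⁻¹ * (h.sw * w'' * h.sw⁻¹)⁻¹ := by
    rw [hw'', hw'def]; group
  rw [h1, hτ.act, h2] at e
  obtain ⟨-, h3⟩ := h.e_inj e
  rw [(hw w hwW).2, hyφ, hw', hw1, hw₂, mul_one, mul_one] at h3
  -- `ζ⁻¹ δ(μ a) = δ(a) μ`
  rw [inv_mul_eq_iff_eq_mul₀ hζ] at h3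
  rw [h3]
  ring

/-- the elements `h_c` -/
theorem diag_of {g : G} {c : F} (hg : g ∈ centralizer (Z : Set G)) (hgY : PT.cj g h.Yp = h.Yp)
    (hc : h.rz ⟨g, hg⟩ h.v0 = c • h.v0) (x y : F) : g * h.e x y * g⁻¹ = h.e x (c * y) := by
  have h1 : g * h.e x 0 * g⁻¹ = h.e x 0 := by
    rw [(mem_centralizer_iff.1 hg _ (h.e_memZ x)).symm, mul_inv_cancel_right]
  have h2 : g * h.e 0 y * g⁻¹ ∈ h.Yp := by
    rw [← hgY]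
    exact conj_mem_cj (h.e_memY y)
  obtain ⟨y', hy'⟩ := (h.mem_Yp).1 h2
  have h3 := h.rz_fm hg (h.W_V 0 y)
  rw [h.fm_e 0 y, map_smul, hc, smul_smul] at h3
  have h4 : h.fm ⟨g * h.e 0 y * g⁻¹, h.W_conj (centralizer_le_normalizer _ hg) (h.W_V 0 y)⟩ = y' • h.v0 := by
    rw [← h.fm_e 0 y']
    congr 1
    exact Subtype.ext hy'.symm
  rw [h4] at h3
  have h5 : y * c = y' := smul_left_injective F h.v0_ne h3
  have e : h.e x y = h.e x 0 * h.e 0 y := by rw [← h.e_add, add_zero, zero_add]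
  have e2 : g * (h.e x 0 * h.e 0 y) * g⁻¹ = g * h.e x 0 * g⁻¹ * (g * h.e 0 y * g⁻¹) := by group
  rw [e, e2, h1, ← hy', ← h.e_add, add_zero, zero_add, ← h5, mul_comm y c]

theorem rel_h {τ g : G} {c μ : F} (hτ : h.Tor τ c) (hc : c ≠ 0)
    (hμ : ∀ w ∈ ws V Z, D.φ (τ * w * τ⁻¹) = μ * D.φ w) (hμδ : ∀ a, D.δ (μ * a) = μ * c * D.δ a)
    (hg : g ∈ centralizer (Z : Set G)) (hgV : g ∈ normalizer (V : Set G)) (hgc : h.rz ⟨g, hg⟩ h.v0 = c • h.v0)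
    (hgf : ∀ m, D.f (h.rz ⟨g, hg⟩ m) = c⁻¹ * D.f m) (a : F) : D.δ (c * a) = c⁻¹ * μ * D.δ a := by
  -- make `g` fix `Y`
  obtain ⟨g, hg, hgV, hgc, hgf, hgY⟩ : ∃ g, ∃ hg : g ∈ centralizer (Z : Set G), g ∈ normalizer (V : Set G) ∧
      h.rz ⟨g, hg⟩ h.v0 = c • h.v0 ∧ (∀ m, D.f (h.rz ⟨g, hg⟩ m) = c⁻¹ * D.f m) ∧ PT.cj g h.Yp = h.Yp := by
    have hgZ : PT.cj g Z = Z := cj_eq_iff.2 (centralizer_le_normalizer _ hg)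
    have hne : PT.cj g h.Yp ≠ Z := fun e => h.Yp_ne (cj_inj.1 (e.trans hgZ.symm))
    obtain ⟨k, hk, hkY⟩ := h.one.move h.one.self (h.pY.conj hgV) h.pY hne h.Yp_ne
    have hkC := kx_le_cent hk
    have hkm : ∀ m, h.rz ⟨k * g, mul_mem hkC hg⟩ m = h.rz ⟨g, hg⟩ m := by
      intro m
      rw [h.rz_mul hkC hg]
      exact h.rp_K hk _
    refine ⟨k * g, mul_mem hkC hg, mul_mem (h.one.K_norm h.one.self hk) hgV, ?_, fun m => ?_, ?_⟩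
    · rw [hkm, hgc]
    · rw [hkm, hgf]
    · rw [← cj_cj, hkY]
  have hact := diag_of (h := h) hg hgY hgc
  have hk1 : ∀ x y, h.sw⁻¹ * g * h.sw * h.e x y * (h.sw⁻¹ * g * h.sw)⁻¹ = h.e (c * x) y := by
    intro x y
    have e : h.sw⁻¹ * g * h.sw * h.e x y * (h.sw⁻¹ * g * h.sw)⁻¹ = h.sw⁻¹ * (g * (h.sw * h.e x y * h.sw⁻¹) * g⁻¹) * h.sw := by
      group
    rw [e, h.sw_act, hact, h.sw_act']
  have hkV : h.sw⁻¹ * g * h.sw ∈ normalizer (V : Set G) := mul_mem (mul_mem (inv_mem h.sw_N) hgV) h.sw_N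
  have hkZ : h.sw⁻¹ * g * h.sw ∈ normalizer (Z : Set G) := by
    rw [← cj_eq_iff]
    exact h.cj_Z_of (f := fun x => c * x) (fun x => ⟨c⁻¹ * x, mul_inv_cancel_left₀ hc x⟩) fun x => hk1 x 0
  have hkh : h.sw⁻¹ * g * h.sw ∈ h.hat := ⟨hkZ, Units.mk0 c hc, fun x => hk1 x 0⟩
  obtain ⟨ν, hν, hkw⟩ := D.scal hkh hkV
  -- `φ(g w g⁻¹) = c⁻¹ φ(w)`
  have hgw : ∀ w ∈ ws V Z, g * w * g⁻¹ ∈ ws V Z ∧ D.φ (g * w * g⁻¹) = c⁻¹ * D.φ w := by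
    intro w hw
    have h1 := h.W_conj (centralizer_le_normalizer _ hg) hw
    refine ⟨h1, ?_⟩
    rw [D.φ_eq h1, D.φ_eq hw, ← hgf, h.rz_fm hg hw]
  -- `ρ`
  have hρ : g⁻¹ * τ⁻¹ * (h.sw⁻¹ * g * h.sw) ∈ yl V Z := by
    rw [← h.XV_cent]
    constructor
    · have h1 : g⁻¹ * (τ⁻¹ * h.sw⁻¹) * g⁻¹⁻¹ ∈ XV V Z :=
        (mem_normalizer_iff.1 (normalizer_le_XV V Z (inv_mem hgV)) _).1
          ((XV V Z).mul_mem ((XV V Z).inv_mem hτ.mem) ((XV V Z).inv_mem h.sw_XV))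
      have e : g⁻¹ * τ⁻¹ * (h.sw⁻¹ * g * h.sw) = g⁻¹ * (τ⁻¹ * h.sw⁻¹) * g⁻¹⁻¹ * h.sw := by group
      rw [e]
      exact (XV V Z).mul_mem h1 h.sw_XV
    · refine h.mem_cent fun x y => ?_
      have e : g⁻¹ * τ⁻¹ * (h.sw⁻¹ * g * h.sw) * h.e x y * (g⁻¹ * τ⁻¹ * (h.sw⁻¹ * g * h.sw))⁻¹ =
          g⁻¹ * (τ⁻¹ * (h.sw⁻¹ * g * h.sw * h.e x y * (h.sw⁻¹ * g * h.sw)⁻¹) * τ) * g := by group
      have e1 : τ⁻¹ * h.e (c * x) y * τ = h.e x (c * y) := by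
        have h1 := hτ.act x (c * y)
        rw [inv_mul_cancel_left₀ hc] at h1
        rw [← h1]; group
      have e2 : g⁻¹ * h.e x (c * y) * g = h.e x y := by
        rw [← hact x y]; group
      rw [e, hk1, e1, e2]
  -- `ν = μ c⁻¹`
  have hνμ : ν = μ * c⁻¹ := by
    obtain ⟨w, hwW, hw1⟩ := D.φ_surj 1
    obtain ⟨h1, h2⟩ := D.φ_yl hρ hwW
    obtain ⟨h3, h4⟩ := hgw _ h1
    have h5 := hμ _ h3
    have e : τ * (g * (g⁻¹ * τ⁻¹ * (h.sw⁻¹ * g * h.sw) * w * (g⁻¹ * τ⁻¹ * (h.sw⁻¹ * g * h.sw))⁻¹) * g⁻¹) * τ⁻¹ =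
        h.sw⁻¹ * g * h.sw * w * (h.sw⁻¹ * g * h.sw)⁻¹ := by group
    rw [e, (hkw w hwW).2, h4, h2, hw1, mul_one, mul_one] at h5
    exact h5
  -- conjugate the commutator by `g`
  have h6 : ∀ b, D.δ (ν * b) = c * c * D.δ b := by
    intro b
    obtain ⟨w, hwW, hw1⟩ := D.φ_surj 1
    obtain ⟨w', hw'W, hw'⟩ := D.φ_surj b
    have h1 := D.com hwW hw'W
    have h2 := D.com (hgw w hwW).1 (hkw w' hw'W).1
    have e : g * (w * (h.sw * w' * h.sw⁻¹) * w⁻¹ * (h.sw * w' * h.sw⁻¹)⁻¹) * g⁻¹ =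
        g * w * g⁻¹ * (h.sw * (h.sw⁻¹ * g * h.sw * w' * (h.sw⁻¹ * g * h.sw)⁻¹) * h.sw⁻¹) * (g * w * g⁻¹)⁻¹ *
          (h.sw * (h.sw⁻¹ * g * h.sw * w' * (h.sw⁻¹ * g * h.sw)⁻¹) * h.sw⁻¹)⁻¹ := by group
    rw [h1, hact, h2] at e
    obtain ⟨-, h3⟩ := h.e_inj e
    rw [(hgw w hwW).2, (hkw w' hw'W).2, hw1, hw', mul_one, mul_one] at h3
    -- `c δ(b) = δ(ν b) c⁻¹`
    rw [eq_comm, mul_inv_eq_iff_eq_mul₀ hc] at h3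
    rw [h3]
    ring
  have hμ0 : μ ≠ 0 := by
    rintro rfl
    rw [zero_mul] at hνμ
    exact hν hνμ
  -- `δ(μ c⁻¹ b) = c² δ(b)`, `b = c a`
  have h7 := h6 (c * a)
  rw [hνμ] at h7
  have e : μ * c⁻¹ * (c * a) = μ * a := by
    field_simp
  rw [e, hμδ] at h7
  -- `μ c δ(a) = c² δ(c a)`
  have h8 : c * c * (c⁻¹ * μ * D.δ a) = c * c * D.δ (c * a) := by
    rw [← h7]
    field_simp
  exact (mul_left_cancel₀ (mul_ne_zero hc hc) h8).symm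

/-- **(3.4)** -/
theorem toDat (hh : ∀ c : F, c ≠ 0 → ∃ g, ∃ hg : g ∈ centralizer (Z : Set G), g ∈ normalizer (V : Set G) ∧
    h.rz ⟨g, hg⟩ h.v0 = c • h.v0 ∧ ∀ m, D.f (h.rz ⟨g, hg⟩ m) = c⁻¹ * D.f m) : Nonempty (Dat h) := by
  have hδ1 : D.δ 1 ≠ 0 := fun e => one_ne_zero ((map_eq_zero_iff D.δ D.δ.injective).1 e)
  have key : ∀ c : F, c ≠ 0 → ∀ τ, h.Tor τ c → ∃ μ : F, (∀ w ∈ ws V Z, D.φ (τ * w * τ⁻¹) = μ * D.φ w) ∧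
      (∀ a, D.δ (μ * a) = μ * c * D.δ a) ∧ ∀ a, D.δ (c * a) = c⁻¹ * μ * D.δ a := by
    intro c hc τ hτ
    obtain ⟨μ, -, h1, h2⟩ := D.rel_tor hτ hc
    obtain ⟨g, hg, hgV, hgc, hgf⟩ := hh c hc
    exact ⟨μ, h1, h2, D.rel_h hτ hc h1 h2 hg hgV hgc hgf⟩
  have hs : ∀ c a : F, D.δ (c * a) = D.δ c / D.δ 1 * D.δ a := by
    intro c a
    by_cases hc : c = 0
    · rw [hc, zero_mul, map_zero, zero_div, zero_mul]
    obtain ⟨τ, hτ⟩ := h.exists_tor hc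
    obtain ⟨μ, -, -, h3⟩ := key c hc τ hτ
    have h4 := h3 1
    rw [mul_one] at h4
    rw [h4, h3 a, mul_div_cancel_right₀ _ hδ1]
  let θ : F →+* F :=
    { toFun := fun c => D.δ c / D.δ 1
      map_one' := div_self hδ1
      map_zero' := by rw [map_zero, zero_div]
      map_add' := fun a b => by rw [map_add, add_div]
      map_mul' := fun a b => by rw [hs a b, mul_div_assoc] }
  have hθ : ∀ c, θ c = D.δ c / D.δ 1 := fun _ => rfl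
  have hδθ : ∀ c, D.δ c = D.δ 1 * θ c := fun c => by rw [hθ, mul_div_cancel₀ _ hδ1]
  have hμ : ∀ c : F, c ≠ 0 → ∀ τ, h.Tor τ c → (∀ w ∈ ws V Z, D.φ (τ * w * τ⁻¹) = c * θ c * D.φ w) ∧
      θ (c * θ c) = c * θ c * c := by
    intro c hc τ hτ
    obtain ⟨μ, h1, h2, h3⟩ := key c hc τ hτ
    have h4 := h3 1
    rw [mul_one] at h4
    have h5 : μ = c * θ c := by
      rw [hθ, h4, mul_div_cancel_right₀ _ hδ1, ← mul_assoc, mul_inv_cancel₀ hc, one_mul]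
    have h6 := h2 1
    rw [mul_one] at h6
    refine ⟨fun w hw => by rw [h1 w hw, h5], ?_⟩
    rw [← h5, hθ, h6, mul_div_cancel_right₀ _ hδ1]
  refine ⟨⟨θ, D.δ 1, D.φ, ?_, hδ1, D.φ_mul, D.zero, D.φ_surj, D.φ_lin, ?_, D.ee_dd, ?_⟩⟩
  · intro a
    by_cases ha : a = 0
    · rw [ha, map_zero, map_zero, mul_zero]
    obtain ⟨τ, hτ⟩ := h.exists_tor ha
    have h1 := (hμ a ha τ hτ).2
    rw [map_mul] at h1
    have h2 : θ a ≠ 0 := fun e => ha ((map_eq_zero θ).1 e)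
    refine mul_left_cancel₀ h2 ?_
    rw [h1]
    ring
  · intro τ w ζ hτ hζ hw
    exact (hμ ζ hζ τ hτ).1 w hw
  · intro w w' hw hw'
    rw [D.com hw hw', hδθ (D.φ w), hδθ (D.φ w')]
    congr 1 <;> ring

end PreDat

end Cfsg.Agent.Omega.NO3S.OneQ.TrE
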