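import Cfsg.Agent.Omega.NO3S.OneQ.TrE.Glue

/-!
# NO-3S, `OneQ`, case (TR): the elements `h_c` (bb OMEGA #20607 (3.4), #21595)

* `Co.W_norm_sup` : `W_Y` normalises `V V^j`, `j ∈ C_G(Z)`;
* `Co.norm_of_scal` : `x ∈ C_G(Z)` which normalises `V V^j` and fixes the point `v₀` normalises `V` if `v₀`, `j v₀` are
  independent;
* `Co.exists_h` : for `c ≠ 0` there is `g ∈ C_G(Z) ∩ N_G(V)`, `g v₀ = c v₀`, `f ∘ g = c⁻¹ f`.
-/

set_option autoImplicit false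
set_option linter.unusedSectionVars false

namespace Cfsg.Agent.Omega.NO3S.OneQ

open Subgroup Cfsg.Agent.Omega.NO3S.PT Cfsg.Agent.Omega.NoFF.Basic
open scoped Pointwise

universe u

variable {G : Type u} [Group G]

theorem norm_of_cj_le [Finite G] {x : G} {V : Subgroup G} (hx : PT.cj x V ≤ V) : x ∈ normalizer (V : Set G) := by
  rw [← cj_eq_iff]
  refine Subgroup.eq_of_le_of_card_ge hx ?_
  exact le_of_eq (Nat.card_congr (Subgroup.equivSMul (MulAut.conj x) V).toEquiv)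

namespace Co

variable [Finite G] {F : Type*} [Field F] [CharP F 2] {S : Sylow 2 G} {B P V Z : Subgroup G} (h : Co F S B P V Z)

/-- `W_Y` normalises `V V^j` -/
theorem W_norm_sup (htr : ∀ w ∈ ws V Z, ∀ u ∈ ws V h.Yp, w * u * w⁻¹ * u⁻¹ ∈ V) {j : G}
    (hj : j ∈ centralizer (Z : Set G)) : ws V h.Yp ≤ normalizer ((V ⊔ PT.cj j V : Subgroup G) : Set G) := by
  intro a ha
  apply norm_of_cj_le
  rw [PT.cj, Subgroup.smul_sup]
  refine sup_le ?_ ?_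
  · have h1 : PT.cj a V = V := cj_eq_iff.2 (centralizer_le_normalizer _ (h.one.W_le_cent h.pY ha))
    exact (le_of_eq h1).trans le_sup_left
  · intro x hx
    have hx' : a⁻¹ * x * a ∈ PT.cj j V := mem_cj.1 hx
    set v := a⁻¹ * x * a with hv
    have hxv : x = a * v * a⁻¹ * v⁻¹ * v := by rw [hv]; group
    have hvW : v ∈ ws V Z := by
      have h1 := hx'
      rw [mem_cj] at h1
      have h2 := h.W_conj (centralizer_le_normalizer _ hj) (h.one.V_le_W' h1)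
      have e : j * (j⁻¹ * v * j) * j⁻¹ = v := by group
      rwa [e] at h2
    have h2 := inv_mem (htr v hvW a ha)
    have e : (v * a * v⁻¹ * a⁻¹)⁻¹ = a * v * a⁻¹ * v⁻¹ := by group
    rw [e] at h2
    rw [hxv]
    exact mul_mem (mem_sup_left h2) (mem_sup_right hx')

theorem Wj_norm_sup (htr : ∀ w ∈ ws V Z, ∀ u ∈ ws V h.Yp, w * u * w⁻¹ * u⁻¹ ∈ V) {j a : G}
    (hj : j ∈ centralizer (Z : Set G)) (ha : a ∈ ws V h.Yp) :
    j * a * j⁻¹ ∈ normalizer ((V ⊔ PT.cj j V : Subgroup G) : Set G) := by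
  have h1 := h.W_norm_sup htr (inv_mem hj) ha
  rw [← cj_eq_iff] at h1 ⊢
  have h2 : PT.cj j (V ⊔ PT.cj j⁻¹ V) = V ⊔ PT.cj j V := by
    rw [PT.cj, Subgroup.smul_sup]
    show PT.cj j V ⊔ PT.cj j (PT.cj j⁻¹ V) = _
    rw [cj_cj, mul_inv_cancel, cj_one, sup_comm]
  rw [← h2, cj_cj]
  have e : j * a * j⁻¹ * j = j * a := by group
  rw [e, ← cj_cj, h1]

/-- an element which fixes the point `F v₀` -/
theorem norm_of_scal {x j : G} (hx : x ∈ centralizer (Z : Set G)) (hj : j ∈ centralizer (Z : Set G))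
    (hxU : x ∈ normalizer ((V ⊔ PT.cj j V : Subgroup G) : Set G)) {c : F} (hxc : h.rz ⟨x, hx⟩ h.v0 = c • h.v0)
    {f : Module.Dual F h.MF} (hf0 : f h.v0 = 0) (hfj : f (h.rz ⟨j, hj⟩ h.v0) ≠ 0) : x ∈ normalizer (V : Set G) := by
  apply norm_of_cj_le
  intro y hy
  rw [mem_cj] at hy
  set v := x⁻¹ * y * x with hv
  have hyv : y = x * v * x⁻¹ := by rw [hv]; group
  have hyU : y ∈ V ⊔ PT.cj j V := by
    rw [hyv]
    exact (mem_normalizer_iff.1 hxU _).1 (mem_sup_left hy)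
  have hVW : V ≤ ws V Z := h.one.V_le_W h.one.self
  have hjVW : PT.cj j V ≤ ws V Z := by
    intro w hw
    rw [mem_cj] at hw
    have h2 := h.W_conj (centralizer_le_normalizer _ hj) (hVW hw)
    have e : j * (j⁻¹ * w * j) * j⁻¹ = w := by group
    rwa [e] at h2
  have hN : V ≤ normalizer ((PT.cj j V : Subgroup G) : Set G) := by
    have h1 : V ≤ centralizer ((PT.cj j V : Subgroup G) : Set G) := fun v hv => mem_centralizer_iff.2 fun w hw =>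
      h.one.comm_W h.one.self.cj (hjVW hw) (hVW hv)
    exact h1.trans (centralizer_le_normalizer _)
  obtain ⟨v₁, hv₁, v₂, hv₂, rfl⟩ := mem_sup_norm hN hyU
  obtain ⟨a, b, hab⟩ := (h.mem_V _).1 hy
  obtain ⟨a₁, b₁, rfl⟩ := (h.mem_V _).1 hv₁
  rw [mem_cj] at hv₂
  obtain ⟨a₂, b₂, hab₂⟩ := (h.mem_V _).1 hv₂
  have e2 : v₂ = j * h.e a₂ b₂ * j⁻¹ := by rw [hab₂]; group
  have h1 := h.rz_fm hx (h.W_V a b)
  rw [h.fm_e a b, map_smul, hxc] at h1
  have hjW := h.W_conj (centralizer_le_normalizer _ hj) (h.W_V a₂ b₂)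
  have h2 : h.fm ⟨x * h.e a b * x⁻¹, h.W_conj (centralizer_le_normalizer _ hx) (h.W_V a b)⟩ =
      h.fm (⟨h.e a₁ b₁, h.W_V a₁ b₁⟩ * ⟨j * h.e a₂ b₂ * j⁻¹, hjW⟩) := by
    congr 1
    apply Subtype.ext
    show x * h.e a b * x⁻¹ = h.e a₁ b₁ * (j * h.e a₂ b₂ * j⁻¹)
    rw [← e2, hab, ← hyv]
  have h3 := h.rz_fm hj (h.W_V a₂ b₂)
  rw [h.fm_e a₂ b₂, map_smul] at h3
  rw [h2, h.fm_mul, h.fm_e a₁ b₁, ← h3] at h1
  have h4 := congrArg f h1
  rw [map_smul, map_smul, hf0, map_add, map_smul, map_smul, hf0, smul_zero, smul_zero, smul_zero, zero_add,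
    smul_eq_mul, eq_comm, mul_eq_zero] at h4
  have h5 : b₂ = 0 := h4.resolve_right hfj
  rw [e2, h5]
  refine mul_mem (h.e_memV _ _) ?_
  have h6 : j * h.e a₂ 0 * j⁻¹ = h.e a₂ 0 := by
    rw [(mem_centralizer_iff.1 hj _ (h.e_memZ a₂)).symm, mul_inv_cancel_right]
  rw [h6]
  exact h.e_memV _ _

/-- **the elements `h_c`** -/
theorem exists_h [Finite F] (htr : ∀ w ∈ ws V Z, ∀ u ∈ ws V h.Yp, w * u * w⁻¹ * u⁻¹ ∈ V)
    {v : centralizer (Z : Set G) → h.MF} {Φ : centralizer (Z : Set G) → AddSubgroup (Module.Dual F h.MF)}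
    (hv : ∀ c, v c = h.rz c h.v0)
    (hΦ : ∀ c φ, φ ∈ Φ c ↔ ∃ a : centralizer (Z : Set G), (a : G) ∈ ws V h.Yp ∧
      ∀ m, h.rz (c * a * c⁻¹) m = m + φ m • v c)
    (Sy : TRp.Sys F v Φ) (hI : TRp.Inj v Φ) {f : Module.Dual F h.MF} (hf : f ∈ Φ 1) (hf0 : f ≠ 0) {c : F} (hc : c ≠ 0) :
    ∃ g, ∃ hg : g ∈ centralizer (Z : Set G), g ∈ normalizer (V : Set G) ∧
      h.rz ⟨g, hg⟩ h.v0 = c • h.v0 ∧ ∀ m, f (h.rz ⟨g, hg⟩ m) = c⁻¹ * f m := by
  have : Finite h.MF := inferInstance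
  have hv1 : v 1 = h.v0 := by rw [hv, map_one]; rfl
  obtain ⟨j, hj⟩ := Sy.exists_hyp hf0
  -- `f₁`, `f_j`
  set f₁ : Module.Dual F h.MF := (f (v j))⁻¹ • f with hf₁
  have hf₁Φ : f₁ ∈ Φ 1 := Sy.smul_mem hI hf _
  have hf₁j : f₁ (v j) = 1 := by rw [hf₁, LinearMap.smul_apply, smul_eq_mul, inv_mul_cancel₀ hj]
  obtain ⟨fj, hfj, hfj1⟩ := Sy.surj hI (Sy.symm ⟨f, hf, hj⟩) 1
  have hf₁0 : f₁ (v 1) = 0 := Sy.self hf₁Φ
  have hfj0 : fj (v j) = 0 := Sy.self hfj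
  have hT : ∀ c : F, ∃ a : centralizer (Z : Set G), (a : G) ∈ ws V h.Yp ∧ ∀ m, h.rz a m = m + (c * f₁ m) • v 1 := by
    intro c
    obtain ⟨a, ha, hae⟩ := (hΦ 1 _).1 (Sy.smul_mem hI hf₁Φ c)
    refine ⟨a, ha, fun m => ?_⟩
    have := hae m
    rwa [one_mul, inv_one, mul_one] at this
  have hS : ∀ c : F, ∃ a : centralizer (Z : Set G), (a : G) ∈ ws V h.Yp ∧
      ∀ m, h.rz (j * a * j⁻¹) m = m + (c * fj m) • v j := by
    intro c
    obtain ⟨a, ha, hae⟩ := (hΦ j _).1 (Sy.smul_mem hI hfj c)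
    exact ⟨a, ha, fun m => hae m⟩
  -- `w(c)`
  have hw : ∀ c : F, c ≠ 0 → ∃ x : centralizer (Z : Set G),
      (x : G) ∈ normalizer ((V ⊔ PT.cj (j : G) V : Subgroup G) : Set G) ∧ h.rz x (v 1) = c⁻¹ • v j ∧
      h.rz x (v j) = c • v 1 ∧ (∀ m, f₁ (h.rz x m) = c⁻¹ * fj m) ∧ ∀ m, fj (h.rz x m) = c * f₁ m := by
    intro c hc
    obtain ⟨t, ht, hte⟩ := hT c
    obtain ⟨s, hs, hse⟩ := hS c⁻¹
    have h2 : (2 : F) = 0 := CharTwo.two_eq_zero
    have hcc := mul_inv_cancel₀ hc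
    have hx : ∀ m, h.rz (t * (j * s * j⁻¹) * t) m = h.rz t (h.rz (j * s * j⁻¹) (h.rz t m)) := fun m => by
      rw [Mix.r_mul, Mix.r_mul]
    have f1T : ∀ m, f₁ (h.rz t m) = f₁ m := fun m => by rw [hte, map_add, map_smul, hf₁0, smul_zero, add_zero]
    have fjT : ∀ m, fj (h.rz t m) = fj m + c * f₁ m := fun m => by
      rw [hte, map_add, map_smul, hfj1, smul_eq_mul, mul_one]
    have f1S : ∀ m, f₁ (h.rz (j * s * j⁻¹) m) = f₁ m + c⁻¹ * fj m := fun m => by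
      rw [hse, map_add, map_smul, hf₁j, smul_eq_mul, mul_one]
    have fjS : ∀ m, fj (h.rz (j * s * j⁻¹) m) = fj m := fun m => by rw [hse, map_add, map_smul, hfj0, smul_zero, add_zero]
    refine ⟨t * (j * s * j⁻¹) * t, ?_, ?_, ?_, fun m => ?_, fun m => ?_⟩
    · have h3 := h.W_norm_sup htr j.2 ht
      exact mul_mem (mul_mem h3 (h.Wj_norm_sup htr j.2 hs)) h3
    · rw [hx, hte (v 1), hf₁0, mul_zero, zero_smul, add_zero, hse, hfj1, mul_one, map_add, map_smul, hte, hte, hf₁0,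
        hf₁j, mul_zero, zero_smul, add_zero, mul_one, smul_add, smul_smul, inv_mul_cancel₀ hc, one_smul]
      have h4 : v 1 + v 1 = 0 := TRp.add_self_mod (F := F) (v 1)
      rw [add_comm (c⁻¹ • v j), ← add_assoc, h4, zero_add]
    · rw [hx, hte (v j), hf₁j, mul_one, map_add, map_smul, hse, hse, hfj0, hfj1, mul_zero, zero_smul, add_zero, mul_one,
        smul_add, smul_smul, hcc, one_smul]
      have h4 : v j + v j = 0 := TRp.add_self_mod (F := F) (v j)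
      rw [add_comm (c • v 1), ← add_assoc, h4, zero_add, map_smul, hte, hf₁0, mul_zero, zero_smul, add_zero]
    · rw [hx, f1T, f1S, f1T, fjT]
      linear_combination (f₁ m) * hcc + (f₁ m) * h2
    · rw [hx, fjT, fjS, f1S, f1T, fjT]
      linear_combination (fj m + c * f₁ m) * hcc + (fj m + c * f₁ m) * h2
  obtain ⟨x, hxU, hx1, hxj, hxf, hxfj⟩ := hw c hc
  obtain ⟨y, hyU, hy1, hyj, hyf, hyfj⟩ := hw 1 one_ne_zero
  have hxy : h.rz (x * y) h.v0 = c • h.v0 := by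
    rw [← hv1, Mix.r_mul, hy1, inv_one, one_smul, hxj]
  refine ⟨(x : G) * y, (x * y).2, ?_, hxy, fun m => ?_⟩
  · refine h.norm_of_scal (x * y).2 j.2 (mul_mem hxU hyU) hxy (f := f₁) (by rw [← hv1]; exact hf₁0) ?_
    have h3 : h.rz ⟨(j : G), j.2⟩ h.v0 = v j := (hv j).symm
    rw [h3, hf₁j]
    exact one_ne_zero
  · have h3 : f₁ (h.rz (x * y) m) = c⁻¹ * f₁ m := by
      rw [Mix.r_mul, hxf, hyfj, one_mul]
    rw [hf₁, LinearMap.smul_apply, LinearMap.smul_apply, smul_eq_mul, smul_eq_mul] at h3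
    refine mul_left_cancel₀ (inv_ne_zero hj) ?_
    show (f (v j))⁻¹ * f (h.rz (x * y) m) = _
    rw [h3]
    ring

end Co

end Cfsg.Agent.Omega.NO3S.OneQ
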