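import Cfsg.Agent.Omega.NO3S.OneQ.TrE.Hc
import Cfsg.Agent.Omega.NO3S.OneQ.TRi.Tw
import Cfsg.Agent.Omega.NO3S.OneQ.TRi.SysI

/-!
# NO-3S, `OneQ`: case (TR) is impossible (bb OMEGA #20607), assembly

* `TR.mem_rz`, `TR.sysP` : `TRp.Sys F h.vv hT.Phi`;
* `TR.false_of` : `TRp.Inj`, `δ` and `4 ≤ |F|` give a contradiction.
-/

set_option autoImplicit false
set_option linter.unusedSectionVars false

namespace Cfsg.Agent.Omega.NO3S.OneQ

open Subgroup Cfsg.Agent.Omega.NO3S.PT Cfsg.Agent.Omega.NoFF.Basic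
open scoped Pointwise

universe u

variable {G : Type u} [Group G]

namespace Co

variable [Finite G] {F : Type*} [Field F] [CharP F 2] {S : Sylow 2 G} {B P V Z : Subgroup G} {h : Co F S B P V Z}

theorem TR.mem_rz (hT : h.TR) (c : centralizer (Z : Set G)) (φ : Module.Dual F h.MF) :
    φ ∈ hT.Phi c ↔ ∃ a : centralizer (Z : Set G), (a : G) ∈ ws V h.Yp ∧
      ∀ m, h.rz (c * a * c⁻¹) m = m + φ m • h.vv c := by
  rw [hT.mem_Phi]
  constructor
  · rintro ⟨w, hw⟩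
    refine ⟨⟨h.sw * w * h.sw⁻¹, h.one.W_le_C h.pY (h.sw_W w.2)⟩, h.sw_W w.2, fun m => ?_⟩
    rw [Mix.r_mul, Mix.r_mul]
    exact hw m
  · rintro ⟨a, ha, hae⟩
    refine ⟨⟨h.sw⁻¹ * a * h.sw, h.sw_inv_W ha⟩, fun m => ?_⟩
    have h1 := hae m
    rw [Mix.r_mul, Mix.r_mul] at h1
    have h2 : h.ag ⟨h.sw⁻¹ * a * h.sw, h.sw_inv_W ha⟩ = h.rz a := by
      show h.rp _ = h.rp _
      congr 1
      apply Subtype.ext
      show h.sw * (h.sw⁻¹ * a * h.sw) * h.sw⁻¹ = a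
      group
    rw [h2]
    exact h1

theorem TR.Phi_eq (hT : h.TR) : h.mix.Pg = hT.Phi := by
  funext c
  ext φ
  rw [hT.mem_rz]
  rfl

/-- the pure system -/
theorem TR.sysP (hT : h.TR) (hT' : OneQ.TR V Z) : TRp.Sys F h.vv hT.Phi := by
  have h1 := h.sys hT'
  rw [hT.Phi_eq] at h1
  exact h1

/-- **(TR), assembly** -/
theorem TR.false_of [Finite F] (hF : 3 ≤ Nat.card F) (hT : h.TR) (Sy : TRp.Sys F h.vv hT.Phi)
    (hI : TRp.Inj h.vv hT.Phi) {f : Module.Dual F h.MF} (hf : f ∈ hT.Phi 1) (hf0 : f ≠ 0)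
    (hδ : ∃ δ : F ≃+ F, ∀ w : ws V Z, h.Th w = δ (f (h.fm w)) • f) : False := by
  obtain ⟨δ, hδ⟩ := hδ
  let D : TrE.PreDat h :=
    { f := f
      f0 := hf0
      δ := δ
      ag := fun w hw m => by
        have h1 := hT.ag_Th ⟨w, hw⟩ m
        rw [hδ, LinearMap.smul_apply, smul_eq_mul] at h1
        exact h1 }
  obtain ⟨E⟩ := D.toDat fun c hc => h.exists_h hT (v := h.vv) (fun _ => rfl) hT.mem_rz Sy hI hf hf0 hc
  obtain ⟨s, hs0, hs1⟩ : ∃ s : F, s ≠ 0 ∧ s ≠ 1 := by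
    by_contra hcon
    push Not at hcon
    have h1 : Function.Surjective (fun b : Bool => if b then (1 : F) else 0) := by
      intro x
      by_cases hx : x = 0
      · exact ⟨false, by simp [hx]⟩
      · exact ⟨true, by simp [hcon x hx]⟩
    have h2 := Nat.card_le_card_of_surjective _ h1
    have h3 : Nat.card Bool = 2 := by simp
    omega
  obtain ⟨b, hb, hb2, hbE⟩ := E.exists_b hs0 hs1
  exact h.tr_end hT (v := h.vv) (fun _ => rfl) hT.mem_rz Sy hI hb hb2 hbE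

end Co

end Cfsg.Agent.Omega.NO3S.OneQ
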