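import Cfsg.Agent.Omega.NO3S.OneQ.TrE.End
import Cfsg.Agent.Omega.NO3S.OneQ.TRp.Line
import Cfsg.Agent.Omega.NO3S.OneQ.MixT

/-!
# NO-3S, `OneQ`, case (TR), the last contradiction (bb OMEGA #20975 (III), #21376)

`Co.tr_end` : `TRp.Sys` with `v c = c v₀`, `Φ c` = the functionals of `c W_Y c⁻¹`, `TRp.Inj`, and an element
`b ∈ C_G(W_Y)` with `b² ∈ W_Y - E_Y` : contradiction.
-/

set_option autoImplicit false
set_option linter.unusedSectionVars false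

namespace Cfsg.Agent.Omega.NO3S.OneQ

open Subgroup Cfsg.Agent.Omega.NO3S.PT Cfsg.Agent.Omega.NoFF.Basic
open scoped Pointwise

universe u

variable {G : Type u} [Group G]

namespace Co

variable [Finite G] {F : Type*} [Field F] [CharP F 2] {S : Sylow 2 G} {B P V Z : Subgroup G} (h : Co F S B P V Z)

/-- (TR) `[W_Z, W_Y] ≤ V` : the elements of `W_Y` are transvections of `MF` -/
theorem tr_phi (htr : ∀ w ∈ ws V Z, ∀ u ∈ ws V h.Yp, w * u * w⁻¹ * u⁻¹ ∈ V) {u : G} (hu : u ∈ ws V h.Yp) :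
    ∃ φ : Module.Dual F h.MF, ∀ m, h.rz ⟨u, h.one.W_le_C h.pY hu⟩ m = m + φ m • h.v0 := by
  have huC := h.one.W_le_C h.pY hu
  have h1 : ∀ m, (h.rz ⟨u, huC⟩ - 1) m ∈ h.lam := by
    intro m
    obtain ⟨w, rfl⟩ := h.fm_surj m
    obtain ⟨x, hx, hxe, e⟩ := h.rp_W h.pY h.Yp_ne hu w
    have e' : (h.rz ⟨u, huC⟩ - 1) (h.fm w) = h.fm ⟨x, h.one.I_le_W' hx⟩ := e
    rw [e', h.fm_mem_lam_I hx, hxe]
    have h2 := inv_mem (htr w w.2 u hu)
    have e3 : ((w : G) * u * (w : G)⁻¹ * u⁻¹)⁻¹ = u * w * u⁻¹ * (w : G)⁻¹ := by group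
    rwa [e3] at h2
  let T : h.MF →ₗ[F] h.lam := LinearMap.codRestrict h.lam (h.rz ⟨u, huC⟩ - 1) h1
  let E : F ≃ₗ[F] h.lam := LinearEquiv.toSpanNonzeroSingleton F h.MF h.v0 h.v0_ne
  refine ⟨(E.symm : h.lam →ₗ[F] F) ∘ₗ T, fun m => ?_⟩
  have h2 : E (E.symm (T m)) = T m := E.apply_symm_apply _
  have h3 : ((E (E.symm (T m)) : h.lam) : h.MF) = E.symm (T m) • h.v0 := rfl
  have h4 : ((T m : h.lam) : h.MF) = h.rz ⟨u, huC⟩ m - m := rfl
  rw [h2, h4] at h3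
  show h.rz ⟨u, huC⟩ m = m + E.symm (T m) • h.v0
  rw [← h3, add_sub_cancel]

/-- an element of `W_Y` which is trivial on `MF` is in `E_Y` -/
theorem mem_ee_of_rz {u : G} (hu : u ∈ ws V h.Yp) (h1 : ∀ m, h.rz ⟨u, h.one.W_le_C h.pY hu⟩ m = m) :
    u ∈ ee V Z h.Yp := by
  refine h.one.mem_ee_of h.pY h.one.self h.Yp_ne.symm hu fun w hw => ?_
  obtain ⟨x, hx, hxe, e⟩ := h.rp_W h.pY h.Yp_ne hu ⟨w, hw⟩
  have e' : h.rz ⟨u, h.one.W_le_C h.pY hu⟩ (h.fm ⟨w, hw⟩) - h.fm ⟨w, hw⟩ = h.fm ⟨x, h.one.I_le_W' hx⟩ := e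
  rw [h1, sub_self] at e'
  have h2 := (h.fm_eq_zero _).1 e'.symm
  have h3 : x ∈ Z := h.rd_inf_I ⟨h2, hx⟩
  rwa [hxe] at h3

/-- **the end of (TR)** -/
theorem tr_end [Finite F] (htr : ∀ w ∈ ws V Z, ∀ u ∈ ws V h.Yp, w * u * w⁻¹ * u⁻¹ ∈ V)
    {v : centralizer (Z : Set G) → h.MF} {Φ : centralizer (Z : Set G) → AddSubgroup (Module.Dual F h.MF)}
    (hv : ∀ c, v c = h.rz c h.v0)
    (hΦ : ∀ c φ, φ ∈ Φ c ↔ ∃ a : centralizer (Z : Set G), (a : G) ∈ ws V h.Yp ∧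
      ∀ m, h.rz (c * a * c⁻¹) m = m + φ m • v c)
    (Sy : TRp.Sys F v Φ) (hI : TRp.Inj v Φ) {b : G} (hb : b ∈ centralizer ((ws V h.Yp : Subgroup G) : Set G))
    (hb2 : b * b ∈ ws V h.Yp) (hbE : b * b ∉ ee V Z h.Yp) : False := by
  have : Finite h.MF := inferInstance
  have hv1 : v 1 = h.v0 := by rw [hv, map_one]; rfl
  have hbV : b ∈ centralizer (V : Set G) := centralizer_le (h.one.V_le_W h.pY) hb
  have hbC : b ∈ centralizer (Z : Set G) := centralizer_le h.one.pl.ZV hbV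
  set β : centralizer (Z : Set G) := ⟨b, hbC⟩ with hβ
  -- `g`
  let g : h.MF ≃ₗ[F] h.MF := LinearEquiv.ofLinearMap (h.rz β) (h.rz β⁻¹)
    (by ext1 m; rw [LinearMap.comp_apply]; exact Mix.r_inv_apply h.rz β m)
    (by ext1 m; rw [LinearMap.comp_apply]; exact Mix.r_inv_apply' h.rz β m)
  have hg : ∀ m, g m = h.rz β m := fun _ => rfl
  have hgs : ∀ m, g.symm m = h.rz β⁻¹ m := fun _ => rfl
  -- `f`
  obtain ⟨f, hf, hf0⟩ := Sy.exists_ne 1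
  obtain ⟨m, hm⟩ := Sy.exists_hyp hf0
  have h1m : TRp.Hyp v Φ 1 m := ⟨f, hf, hm⟩
  obtain ⟨f, hf, hfm⟩ := Sy.surj hI h1m 1
  obtain ⟨fs, hfs, hfs1⟩ := Sy.surj hI (Sy.symm h1m) 1
  have hf0 : f ≠ 0 := by
    rintro rfl
    rw [LinearMap.zero_apply] at hfm
    exact zero_ne_one hfm
  have hgo : g (v 1) = v 1 := by
    rw [hg, hv1]
    exact h.rp_cV hbV
  have hgf : ∀ w, f (g w) = f w := by
    intro w
    obtain ⟨a, ha, hae⟩ := (hΦ 1 f).1 hf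
    have hab : β * a = a * β := Subtype.ext (mem_centralizer_iff.1 hb _ ha).symm
    have h1 : h.rz a w = w + f w • v 1 := by
      have := hae w
      rwa [one_mul, inv_one, mul_one] at this
    have h1' : h.rz a (g w) = g w + f (g w) • v 1 := by
      have := hae (g w)
      rwa [one_mul, inv_one, mul_one] at this
    have h2 : g (h.rz a w) = h.rz a (g w) := by
      rw [hg, hg, ← Mix.r_mul, ← Mix.r_mul, hab]
    rw [h1, h1', map_add, map_smul, hgo, add_right_inj] at h2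
    have h3 : v 1 ≠ 0 := by rw [hv1]; exact h.v0_ne
    exact smul_left_injective F h3 h2.symm
  have hk : v (β * m) = g (v m) := by rw [hv, hv, hg, Mix.r_mul]
  have hk' : fs ∘ₗ (g.symm : h.MF →ₗ[F] h.MF) ∈ Φ (β * m) := by
    rw [hΦ]
    obtain ⟨a, ha, hae⟩ := (hΦ m fs).1 hfs
    refine ⟨a, ha, fun x => ?_⟩
    have e : β * m * a * (β * m)⁻¹ = β * (m * a * m⁻¹) * β⁻¹ := by group
    rw [e, Mix.r_mul, Mix.r_mul, ← hgs, hae, ← hg, map_add, map_smul, LinearEquiv.apply_symm_apply, hk]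
    rfl
  -- `g²`
  obtain ⟨φ, hφ⟩ := h.tr_phi htr hb2
  have hββ : (⟨b * b, h.one.W_le_C h.pY hb2⟩ : centralizer (Z : Set G)) = β * β := rfl
  have hφΦ : φ ∈ Φ 1 := by
    rw [hΦ]
    refine ⟨⟨b * b, h.one.W_le_C h.pY hb2⟩, hb2, fun x => ?_⟩
    rw [one_mul, inv_one, mul_one, hφ, hv1]
  obtain ⟨s, hs⟩ := Sy.prop hI hf hf0 hφΦ
  have h0 : s = 0 := by
    refine Sy.end_sq hI hf hfm hfs hfs1 g hgo hgf hk hk' (s := s) fun w => ?_
    have h1 := hφ w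
    rw [hββ, Mix.r_mul] at h1
    rw [hg, hg, h1, hs, hv1]
    rfl
  refine hbE (h.mem_ee_of_rz hb2 fun x => ?_)
  rw [hφ, hs, h0, zero_smul, LinearMap.zero_apply, zero_smul, add_zero]

end Co

end Cfsg.Agent.Omega.NO3S.OneQ
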